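import Mathlib
import Groth.Prelude.Def_CohDer
import Groth.Prelude.Def_W4stkfunctorsequivp2Beil
import Groth.Agent.Lib.Helper40.Compact

/-!
# Common definitions for S6770 (compact objects of D(Beilinson algebra)) (helper13)
-/

set_option autoImplicit false
universe w u u₁ v₁

open CategoryTheory CategoryTheory.Limits

namespace Groth.Agent.Lib.Helper13.Beil

/-- finite-dimensional cohomology, nonzero in finitely many degrees -/
def Pfin (k : Type u) [Field k] (A : Type u) [Ring A] [Algebra k A]
    [HasDerivedCategory.{w} (ModuleCat.{u} A)] :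
    ObjectProperty (DerivedCategory (ModuleCat.{u} A)) := fun K =>
  (∀ i : ℤ, Module.Finite k (RestrictScalars k A
      ((DerivedCategory.homologyFunctor (ModuleCat.{u} A) i).obj K))) ∧
    Set.Finite {i : ℤ | Nontrivial ((DerivedCategory.homologyFunctor (ModuleCat.{u} A) i).obj K)}

/-- every map from `K` to a coproduct indexed by a type in `Type u` is a finite sum of maps into
the summands (`FinSum` of helper40). -/
def FinAll {D : Type u₁} [Category.{v₁} D] [Preadditive D] (K : D) : Prop :=
  ∀ (J : Type u) (Y : J → D) (c : Cofan Y), IsColimit c → ∀ m : K ⟶ c.pt,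
    Groth.Agent.Lib.Helper40.Cpt.FinSum K c.inj m

end Groth.Agent.Lib.Helper13.Beil
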