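import Groth.Agent.Lib.Helper13.Beil.Transfer
import Groth.Agent.Lib.Helper13.DerSmall

/-!
# S6770: main assembly (helper13)
-/

set_option autoImplicit false
universe w u

open CategoryTheory CategoryTheory.Limits CategoryTheory.Pretriangulated Opposite
open Groth.Agent.Lib.Helper13.Beil Groth.Agent.Lib.Helper40.Cpt Helper89.Compact
open Groth.Agent.Lib.Helper13

namespace Groth.Agent.Lib.Helper13.Beil

section

variable (k : Type u) [Field k] (A : Type u) [Ring A] [Algebra k A]

/-- `Pfin` is invariant under isomorphisms (any model). -/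
lemma pfin_of_iso' [HasDerivedCategory.{w} (ModuleCat.{u} A)]
    {K L : DerivedCategory (ModuleCat.{u} A)} (e : K ≅ L) (h : Pfin k A K) : Pfin k A L := by
  obtain ⟨h1, h2⟩ := h
  have ei : ∀ i : ℤ, (DerivedCategory.homologyFunctor (ModuleCat.{u} A) i).obj K ≅
      (DerivedCategory.homologyFunctor (ModuleCat.{u} A) i).obj L :=
    fun i => (DerivedCategory.homologyFunctor (ModuleCat.{u} A) i).mapIso e
  refine ⟨fun i => finite_of_iso k (ei i) (h1 i), h2.subset ?_⟩
  intro i hi
  exact (ei i).toLinearEquiv.toEquiv.nontrivial_congr.2 hi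

section SmallModel

variable [HasDerivedCategory.{u} (ModuleCat.{u} A)]

attribute [local instance] hasCoproductsD

lemma isCompact_of_finAll {K : DerivedCategory (ModuleCat.{u} A)} (h : FinAll.{u} K) :
    CohDer.IsCompactObject K :=
  isCompact_of_finSum (fun ι X m => h ι X (Cofan.mk (∐ X) (Sigma.ι X)) (coproductIsCoproduct X) m)

lemma finAll_of_isCompact {K : DerivedCategory (ModuleCat.{u} A)}
    (hK : CohDer.IsCompactObject K) : FinAll.{u} K := by
  intro J Y c hc m
  let θW : c.pt ≅ ∐ Y := IsColimit.coconePointUniqueUpToIso hc (coproductIsCoproduct Y)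
  refine finSum_transfer c.inj (Sigma.ι Y) (fun i => Iso.refl _) θW ?_ m
    (finSum_of_compact hK Y (m ≫ θW.hom))
  intro i
  rw [Iso.refl_hom, Category.id_comp]
  exact IsColimit.comp_coconePointUniqueUpToIso_hom hc (coproductIsCoproduct Y) ⟨i⟩

end SmallModel

/-- The main theorem for an algebra with a triangular system of idempotents, in an arbitrary model
`hs` of the derived category; the marketplace lemmas enter as hypotheses. -/
theorem main (hs : HasDerivedCategory.{w} (ModuleCat.{u} A))
    (h' : HasDerivedCategory.{u} (ModuleCat.{u} A))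
    (hT0 : ∀ (K : @DerivedCategory (ModuleCat.{u} A) _ _ hs) (J : Type u)
      [HasCoproductsOfShape J (@DerivedCategory (ModuleCat.{u} A) _ _ hs)],
      (∀ (Y : J → @DerivedCategory (ModuleCat.{u} A) _ _ hs) (m : K ⟶ ∐ Y),
        FinSum K (Sigma.ι Y) m) →
      PreservesColimitsOfShape (Discrete J) (preadditiveCoyoneda.obj (op K)))
    (hT1a : ∀ (E : @DerivedCategory (ModuleCat.{u} A) _ _ hs ≌
        @DerivedCategory (ModuleCat.{u} A) _ _ h') [E.functor.Additive]
      (K : @DerivedCategory (ModuleCat.{u} A) _ _ hs), FinAll.{u} K → FinAll.{u} (E.functor.obj K))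
    (hT1b : ∀ (E : @DerivedCategory (ModuleCat.{u} A) _ _ h' ≌
        @DerivedCategory (ModuleCat.{u} A) _ _ hs) [E.functor.Additive]
      (K : @DerivedCategory (ModuleCat.{u} A) _ _ h'), FinAll.{u} K → FinAll.{u} (E.functor.obj K))
    (hP : @PfinThick k _ A _ _ h')
    (hMOD : ∀ M : ModuleCat.{u} A, Module.Finite k (RestrictScalars k A M) → @CptMod A _ h' M)
    (K : @DerivedCategory (ModuleCat.{u} A) _ _ hs) :
    (∀ J : Type u, PreservesColimitsOfShape (Discrete J) (preadditiveCoyoneda.obj (op K))) ↔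
      @Pfin k _ A _ _ hs K := by
  let X : CochainComplex (ModuleCat.{u} A) ℤ := (@DerivedCategory.Q _ _ _ hs).objPreimage K
  let eK : (@DerivedCategory.Q _ _ _ hs).obj X ≅ K := (@DerivedCategory.Q _ _ _ hs).objObjPreimageIso K
  letI : HasCoproducts.{u} (@DerivedCategory (ModuleCat.{u} A) _ _ h') := @hasCoproductsD A _ h'
  constructor
  · intro h
    have h1 : FinAll.{u} K := finAll_of_preserves K h
    have h2 : FinAll.{u} ((@DerivedCategory.Q _ _ _ hs).obj X) := finAll_of_iso eK.symm h1
    have h3 : FinAll.{u} ((@DerivedCategory.Q _ _ _ h').obj X) := finAll_model hs h' hT1a X h2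
    have h4 : CohDer.IsCompactObject ((@DerivedCategory.Q _ _ _ h').obj X) :=
      @isCompact_of_finAll A _ h' _ h3
    have h5 := @pfin_of_isCompact k _ A _ _ h' hP _ h4
    have h6 := (@pfin_Q_iff k _ A _ _ h' X).1 h5
    have h7 := (@pfin_Q_iff k _ A _ _ hs X).2 h6
    exact @pfin_of_iso' k _ A _ _ hs _ _ eK h7
  · intro h J
    have h7 := @pfin_of_iso' k _ A _ _ hs _ _ eK.symm h
    have h6 := (@pfin_Q_iff k _ A _ _ hs X).1 h7
    have h5 := (@pfin_Q_iff k _ A _ _ h' X).2 h6
    have h4 := @isCompact_of_pfin k _ A _ _ h' hMOD _ h5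
    have h3 : FinAll.{u} ((@DerivedCategory.Q _ _ _ h').obj X) := @finAll_of_isCompact A _ h' _ h4
    have h2 : FinAll.{u} ((@DerivedCategory.Q _ _ _ hs).obj X) := finAll_model h' hs hT1b X h3
    have h1 : FinAll.{u} K := finAll_of_iso eK h2
    haveI : HasCoproductsOfShape J (@DerivedCategory (ModuleCat.{u} A) _ _ hs) :=
      @Helper89.SigmaExact.hasCoproductsOfShape_derivedCategory _ _ _ _ hs J _
    exact hT0 K J (fun Y m => h1 J Y (Cofan.mk (∐ Y) (Sigma.ι Y)) (coproductIsCoproduct Y) m)

end

end Groth.Agent.Lib.Helper13.Beil
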