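import Groth.Agent.Lib.Helper13.Beil.Defs
import Groth.Agent.Lib.Helper13.BvdB2
import Groth.Agent.Lib.Helper13.DerCompactGen
import Groth.Agent.Lib.Helper13.ExtCompact
import Groth.Agent.Lib.Helper84.Devissage
import Groth.Agent.Lib.Helper89.Compact
import Groth.Agent.Lib.Helper89.SigmaExact

/-!
# S6770: generic parts (helper13)
-/

set_option autoImplicit false
universe w u u₁ v₁

open CategoryTheory CategoryTheory.Limits CategoryTheory.Pretriangulated Opposite
open Groth.Agent.Lib.Helper13.Beil Groth.Agent.Lib.Helper40.Cpt

namespace Groth.Agent.Lib.Helper13.Beil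

section T0a

/-- `Hom(K, -)` commuting with small coproducts gives finite-sum decompositions. -/
lemma finAll_of_preserves {D : Type u₁} [Category.{v₁} D] [Preadditive D] (K : D)
    (h : ∀ J : Type u, PreservesColimitsOfShape (Discrete J) (preadditiveCoyoneda.obj (op K))) :
    FinAll.{u} K := by
  classical
  intro J Y c hc m
  have := h J
  have hc' := isColimitOfPreserves (preadditiveCoyoneda.obj (op K)) hc
  have key : ∀ x : K ⟶ c.pt, FinSum K c.inj x := by
    refine Groth.Agent.Lib.Helper13.ExtCompact.ab_coproduct_induction _ hc'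
      (fun x => FinSum K c.inj x) ?_ ?_ ?_
    · exact ⟨∅, fun _ => 0, fun _ _ => rfl, by simp; rfl⟩
    · intro x y hx hy
      exact hx.add hy
    · intro i g
      let g' : K ⟶ Y i.as := g
      show FinSum K c.inj (g' ≫ c.inj i.as)
      have := FinSum.of_sum (K := K) c.inj {i.as}
        (fun j => if h : j = i.as then g' ≫ eqToHom (by rw [h]) else 0)
      simpa [Category.comp_id] using this
  exact key m

end T0a

section Fin

variable (k : Type u) [Field k] {A : Type u} [Ring A] [Algebra k A]

lemma finite_of_iso {M M' : ModuleCat.{u} A} (e : M ≅ M')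
    (h : Module.Finite k (RestrictScalars k A M)) : Module.Finite k (RestrictScalars k A M') := by
  let e' := (ModuleCat.restrictScalars (algebraMap k A)).mapIso e
  haveI : Module.Finite k ((ModuleCat.restrictScalars (algebraMap k A)).obj M) := h
  exact Module.Finite.equiv e'.toLinearEquiv

variable (A) in
/-- model independence of `Pfin` on objects coming from complexes -/
lemma pfin_Q_iff [HasDerivedCategory.{w} (ModuleCat.{u} A)]
    (X : CochainComplex (ModuleCat.{u} A) ℤ) :
    Pfin k A (DerivedCategory.Q.obj X) ↔
      ((∀ i : ℤ, Module.Finite k (RestrictScalars k A (X.homology i))) ∧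
        Set.Finite {i : ℤ | Nontrivial (X.homology i)}) := by
  have e : ∀ i : ℤ, (DerivedCategory.homologyFunctor (ModuleCat.{u} A) i).obj
      (DerivedCategory.Q.obj X) ≅ X.homology i :=
    fun i => (DerivedCategory.homologyFunctorFactors (ModuleCat.{u} A) i).app X
  have hnt : ∀ i : ℤ, Nontrivial ((DerivedCategory.homologyFunctor (ModuleCat.{u} A) i).obj
      (DerivedCategory.Q.obj X)) ↔ Nontrivial (X.homology i) := by
    intro i
    exact (e i).toLinearEquiv.toEquiv.nontrivial_congr
  constructor
  · rintro ⟨h1, h2⟩
    refine ⟨fun i => finite_of_iso k (e i) (h1 i), ?_⟩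
    refine h2.subset ?_
    intro i hi
    exact (hnt i).2 hi
  · rintro ⟨h1, h2⟩
    refine ⟨fun i => finite_of_iso k (e i).symm (h1 i), ?_⟩
    refine h2.subset ?_
    intro i hi
    exact (hnt i).1 hi

end Fin

end Groth.Agent.Lib.Helper13.Beil
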