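import Groth.Agent.Lib.Helper13.Beil.Small

/-!
# S6770: the theorem in a small model of the derived category (helper13)
-/

set_option autoImplicit false
universe u

open CategoryTheory CategoryTheory.Limits CategoryTheory.Pretriangulated Opposite ZeroObject
open Groth.Agent.Lib.Helper13.Beil Groth.Agent.Lib.Helper40.Cpt Helper89.Compact
open Groth.Agent.Lib.Helper13

namespace Groth.Agent.Lib.Helper13.Beil

/-- `Pfin` is a thick property containing `A[0]` (to be supplied by the marketplace lemmas). -/
structure PfinThick (k : Type u) [Field k] (A : Type u) [Ring A] [Algebra k A]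
    [HasDerivedCategory.{u} (ModuleCat.{u} A)] : Prop where
  of_iso : ∀ {K L : DerivedCategory (ModuleCat.{u} A)} (_ : K ≅ L), Pfin k A K → Pfin k A L
  zero : ∀ K : DerivedCategory (ModuleCat.{u} A), IsZero K → Pfin k A K
  retract : ∀ {K L : DerivedCategory (ModuleCat.{u} A)} (_ : Retract K L), Pfin k A L → Pfin k A K
  shift : ∀ (K : DerivedCategory (ModuleCat.{u} A)) (n : ℤ), Pfin k A K → Pfin k A (K⟦n⟧)
  ext : ∀ T : Triangle (DerivedCategory (ModuleCat.{u} A)),
    T ∈ distTriang (DerivedCategory (ModuleCat.{u} A)) → Pfin k A T.obj₁ → Pfin k A T.obj₃ →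
      Pfin k A T.obj₂
  single_self : Pfin k A ((DerivedCategory.singleFunctor (ModuleCat.{u} A) 0).obj (ModuleCat.of A A))

section

variable (k : Type u) [Field k] (A : Type u) [Ring A] [Algebra k A]
  [HasDerivedCategory.{u} (ModuleCat.{u} A)]

/-- coproducts in the small model -/
noncomputable local instance hasCoproductsD : HasCoproducts.{u} (DerivedCategory (ModuleCat.{u} A)) :=
  fun _ => Helper89.SigmaExact.hasCoproductsOfShape_derivedCategory

lemma isCompact_of_retract' {K L : DerivedCategory (ModuleCat.{u} A)} (i : K ⟶ L) (r : L ⟶ K)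
    (h : i ≫ r = 𝟙 K) (hL : CohDer.IsCompactObject L) : CohDer.IsCompactObject K := by
  apply isCompact_of_finSum
  intro ι X m
  have := (finSum_of_compact hL X (r ≫ m)).precomp i
  rwa [← Category.assoc, h, Category.id_comp] at this

lemma isCompact_single_self : CohDer.IsCompactObject
    ((DerivedCategory.singleFunctor (ModuleCat.{u} A) 0).obj (ModuleCat.of A A)) := by
  have h := DerCompactGen.isCompact_stalk (ModuleCat.of A A) (DerCompactGen.isCompact_self A)
  exact isCompact_of_iso
    ((DerivedCategory.singleFunctorIsoCompQ (ModuleCat.{u} A) 0).app (ModuleCat.of A A)).symm h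

/-- compact ⟹ finite-dimensional bounded cohomology (Neeman). -/
theorem pfin_of_isCompact (hP : PfinThick k A) (K : DerivedCategory (ModuleCat.{u} A))
    (hK : CohDer.IsCompactObject K) : Pfin k A K := by
  let E : PUnit.{u + 1} → DerivedCategory (ModuleCat.{u} A) :=
    fun _ => DerivedCategory.Q.obj (DerCompactGen.stalk (ModuleCat.of A A))
  have hc : ∀ i, CohDer.IsCompactObject (E i) :=
    fun _ => DerCompactGen.isCompact_stalk _ (DerCompactGen.isCompact_self A)
  have hgen : CohDer.Generates E :=
    DerCompactGen.generates_stalk (ModuleCat.of A A) (DerCompactGen.isZero_of_hom_self_eq_zero A)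
  have henv := BvdB2.triangEnvelope_of_isCompact E hc hgen K hK
  haveI : (Pfin k A).IsStableUnderRetracts := ⟨fun r h => hP.retract r h⟩
  haveI : (Pfin k A).IsTriangulated :=
    { exists_zero := ⟨0, isZero_zero _, hP.zero _ (isZero_zero _)⟩
      isStableUnderShiftBy := fun n => { le_shift := fun K hK => hP.shift K n hK }
      ext₂' := fun T hT h₁ h₃ => ObjectProperty.le_isoClosure _ _ (hP.ext T hT h₁ h₃) }
  have hle : ObjectProperty.triangEnvelope (fun Y => ∃ i, Y = E i) ≤ Pfin k A := by
    rw [ObjectProperty.triangEnvelope_le_iff]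
    rintro Y ⟨i, rfl⟩
    exact hP.of_iso ((DerivedCategory.singleFunctorIsoCompQ (ModuleCat.{u} A) 0).app
      (ModuleCat.of A A)) hP.single_self
  exact hle _ henv

/-- module-level compactness -/
def CptMod : ObjectProperty (ModuleCat.{u} A) := fun M =>
  CohDer.IsCompactObject ((DerivedCategory.singleFunctor (ModuleCat.{u} A) 0).obj M)

lemma cptMod_iso (M M' : ModuleCat.{u} A) (e : M ≅ M') (h : CptMod A M) : CptMod A M' :=
  isCompact_of_iso ((DerivedCategory.singleFunctor (ModuleCat.{u} A) 0).mapIso e) h

lemma cptMod_zero (M : ModuleCat.{u} A) (h : IsZero M) : CptMod A M :=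
  isCompact_of_isZero ((DerivedCategory.singleFunctor (ModuleCat.{u} A) 0).map_isZero h)

lemma cptMod_ext (S : ShortComplex (ModuleCat.{u} A)) (hS : S.ShortExact)
    (h₁ : CptMod A S.X₁) (h₃ : CptMod A S.X₃) : CptMod A S.X₂ :=
  isCompact_of_distTriang₂ _ hS.singleTriangle_distinguished h₁ h₃

lemma cptMod_cok (S : ShortComplex (ModuleCat.{u} A)) (hS : S.ShortExact)
    (h₁ : CptMod A S.X₁) (h₂ : CptMod A S.X₂) : CptMod A S.X₃ :=
  isCompact_of_distTriang₃ _ hS.singleTriangle_distinguished h₁ h₂

lemma cptMod_idem (e : A) (he : e * e = e) :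
    CptMod A (ModuleCat.of A (Submodule.span A ({e} : Set A))) := by
  let i : ModuleCat.of A (Submodule.span A ({e} : Set A)) ⟶ ModuleCat.of A A :=
    ModuleCat.ofHom (Submodule.subtype _)
  let r : ModuleCat.of A A ⟶ ModuleCat.of A (Submodule.span A ({e} : Set A)) :=
    ModuleCat.ofHom (LinearMap.codRestrict (Submodule.span A ({e} : Set A))
      (LinearMap.toSpanSingleton A A e)
      (fun a => Submodule.smul_mem _ _ (Submodule.mem_span_singleton_self e)))
  have hir : i ≫ r = 𝟙 _ := by
    ext ⟨x, hx⟩
    obtain ⟨b, rfl⟩ := Submodule.mem_span_singleton.1 hx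
    show (b • e) • e = b • e
    simp only [smul_eq_mul, mul_assoc, he]
  refine isCompact_of_retract' A ((DerivedCategory.singleFunctor (ModuleCat.{u} A) 0).map i)
    ((DerivedCategory.singleFunctor (ModuleCat.{u} A) 0).map r) ?_ (isCompact_single_self A)
  rw [← CategoryTheory.Functor.map_comp, hir, CategoryTheory.Functor.map_id]

/-- finite-dimensional bounded cohomology ⟹ compact, given the module-theoretic induction. -/
theorem isCompact_of_pfin
    (hMOD : ∀ M : ModuleCat.{u} A, Module.Finite k (RestrictScalars k A M) → CptMod A M)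
    (K : DerivedCategory (ModuleCat.{u} A)) (hK : Pfin k A K) : CohDer.IsCompactObject K := by
  obtain ⟨h1, h2⟩ := hK
  obtain ⟨a, ha⟩ := h2.bddBelow
  obtain ⟨b, hb⟩ := h2.bddAbove
  have hzero : ∀ i : ℤ, i < a ∨ b < i →
      IsZero ((DerivedCategory.homologyFunctor (ModuleCat.{u} A) i).obj K) := by
    intro i hi
    have hnn : ¬ Nontrivial ((DerivedCategory.homologyFunctor (ModuleCat.{u} A) i).obj K) := by
      intro hn
      rcases hi with hi | hi
      · exact absurd (ha hn) (not_le.2 hi)
      · exact absurd (hb hn) (not_le.2 hi)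
    haveI := not_nontrivial_iff_subsingleton.1 hnn
    exact ModuleCat.isZero_of_subsingleton _
  refine Groth.Agent.Lib.Helper84.Devissage.prop_of_bounded_homology
    (fun K : DerivedCategory (ModuleCat.{u} A) => CohDer.IsCompactObject K)
    (fun K hK => isCompact_of_isZero hK)
    (fun T hT h₁ h₃ => isCompact_of_distTriang₂ T hT h₁ h₃) K a b hzero ?_
  intro i
  have hc := hMOD _ (h1 i)
  exact isCompact_of_iso
    (((DerivedCategory.singleFunctors (ModuleCat.{u} A)).shiftIso (-i) i 0 (by omega)).app _)
    (isCompact_shift hc (-i))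

end

end Groth.Agent.Lib.Helper13.Beil
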