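import Groth.Agent.Lib.Helper13.Beil.SmallThm

/-!
# S6770: transfer between models of the derived category (helper13)
-/

set_option autoImplicit false
universe w₁ w₂ u u₁ v₁

open CategoryTheory CategoryTheory.Limits CategoryTheory.Pretriangulated Opposite
open Groth.Agent.Lib.Helper13.Beil Groth.Agent.Lib.Helper40.Cpt

namespace Groth.Agent.Lib.Helper13.Beil

section General

variable {D : Type u₁} [Category.{v₁} D] [Preadditive D]

lemma finAll_of_iso {K K' : D} (e : K ≅ K') (h : FinAll.{u} K) : FinAll.{u} K' := by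
  intro J Y c hc m
  have := (h J Y c hc (e.hom ≫ m)).precomp e.inv
  rwa [Iso.inv_hom_id_assoc] at this

end General

section Models

variable {C : Type u₁} [Category.{v₁} C] [Abelian C]

/-- the canonical equivalence between two models of the derived category -/
noncomputable def modelEquiv (h₁ : HasDerivedCategory.{w₁} C) (h₂ : HasDerivedCategory.{w₂} C) :
    @DerivedCategory C _ _ h₁ ≌ @DerivedCategory C _ _ h₂ :=
  Localization.uniq (@DerivedCategory.Qh C _ _ h₁) (@DerivedCategory.Qh C _ _ h₂)
    (HomotopyCategory.subcategoryAcyclic C).trW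

instance modelEquiv_additive (h₁ : HasDerivedCategory.{w₁} C) (h₂ : HasDerivedCategory.{w₂} C) :
    (modelEquiv h₁ h₂).functor.Additive := by
  rw [Localization.functor_additive_iff (@DerivedCategory.Qh C _ _ h₁)
    (HomotopyCategory.subcategoryAcyclic C).trW]
  exact Functor.additive_of_iso (Localization.compUniqFunctor (@DerivedCategory.Qh C _ _ h₁)
    (@DerivedCategory.Qh C _ _ h₂) (HomotopyCategory.subcategoryAcyclic C).trW).symm

/-- the equivalence is compatible with `Q` -/
noncomputable def modelEquivQIso (h₁ : HasDerivedCategory.{w₁} C) (h₂ : HasDerivedCategory.{w₂} C)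
    (X : CochainComplex C ℤ) :
    (modelEquiv h₁ h₂).functor.obj ((@DerivedCategory.Q C _ _ h₁).obj X) ≅
      (@DerivedCategory.Q C _ _ h₂).obj X :=
  (modelEquiv h₁ h₂).functor.mapIso ((@DerivedCategory.quotientCompQhIso C _ _ h₁).app X).symm ≪≫
    (Localization.compUniqFunctor (@DerivedCategory.Qh C _ _ h₁)
      (@DerivedCategory.Qh C _ _ h₂) (HomotopyCategory.subcategoryAcyclic C).trW).app
        ((HomotopyCategory.quotient C (ComplexShape.up ℤ)).obj X) ≪≫
    (@DerivedCategory.quotientCompQhIso C _ _ h₂).app X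

/-- transfer of `FinAll` between models, given the equivalence-transfer lemma `T1`. -/
lemma finAll_model (h₁ : HasDerivedCategory.{w₁} C) (h₂ : HasDerivedCategory.{w₂} C)
    (hT1 : ∀ (E : @DerivedCategory C _ _ h₁ ≌ @DerivedCategory C _ _ h₂) [E.functor.Additive]
      (K : @DerivedCategory C _ _ h₁), FinAll.{u} K → FinAll.{u} (E.functor.obj K))
    (X : CochainComplex C ℤ) (h : FinAll.{u} ((@DerivedCategory.Q C _ _ h₁).obj X)) :
    FinAll.{u} ((@DerivedCategory.Q C _ _ h₂).obj X) :=
  finAll_of_iso (modelEquivQIso h₁ h₂ X) (hT1 (modelEquiv h₁ h₂) _ h)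

end Models

end Groth.Agent.Lib.Helper13.Beil
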